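import Groth.Agent.Lib.GrpAlgClosed19.Points
import Groth.Agent.Lib.GrpAlgClosed19.Descent

/-!
# Isomorphisms of affine algebraic groups over algebraically closed fields descend

* `nonempty_iso`: natural mutually inverse homomorphisms between the points of two affine group schemes of
  finite type over an algebraically closed field, on test objects over an extension, give an isomorphism of groups.
-/

set_option autoImplicit false
set_option linter.style.haveILetI false
set_option backward.isDefEq.respectTransparency.types false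
universe u

open CategoryTheory Limits MonoidalCategory CartesianMonoidalCategory MonObj AlgebraicGeometry

noncomputable section

namespace Groth.Agent.GrpAlgClosed19

variable {k : Type u} [Field k] {K : Type u} [CommRing K] [Algebra k K]
  {G G' : Over (Spec (CommRingCat.of k))} [GrpObj G] [GrpObj G'] [IsAffine G.left] [IsAffine G'.left]

theorem isAffine_tensor (X Y : Over (Spec (CommRingCat.of k))) [IsAffine X.left] [IsAffine Y.left] :
    IsAffine (X ⊗ Y).left := by
  rw [Over.tensorObj_left]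
  infer_instance

/-- The value on the tautological point. -/
def univ (φ : PtHom (specObj k K) G G') : G ⊗ specObj k K ⟶ G' := φ.app (snd _ _) (fst _ _)

omit [IsAffine G.left] [IsAffine G'.left] in
theorem app_eq (φ : PtHom (specObj k K) G G') {T : Over (Spec (CommRingCat.of k))} (t : T ⟶ specObj k K)
    (x : T ⟶ G) : φ.app t x = lift x t ≫ univ φ := by
  rw [univ, ← φ.natural]
  rw [lift_snd, lift_fst]

/-- The rational point given by an algebra map to the field. -/
def ratPoint {R : Type u} [CommRing R] [Algebra k R] (r : R →ₐ[k] k) :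
    𝟙_ (Over (Spec (CommRingCat.of k))) ⟶ specObj k R :=
  Over.homMk (Spec.map (CommRingCat.ofHom r.toRingHom) :
      (Spec (CommRingCat.of k) : Scheme.{u}) ⟶ Spec (CommRingCat.of R)) (by
    show Spec.map (CommRingCat.ofHom r.toRingHom) ≫ Spec.map (CommRingCat.ofHom (algebraMap k R)) = 𝟙 _
    rw [← Spec.map_comp, ← CommRingCat.ofHom_comp,
      show r.toRingHom.comp (algebraMap k R) = RingHom.id k from r.comp_algebraMap]
    exact Spec.map_id _)

theorem isMonHom_of_descent (φ : PtHom (specObj k K) G G') (R : Subalgebra k K)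
    (v : G ⊗ specObj k R ⟶ G') (hv : (G ◁ specHom R.val) ≫ v = univ φ) (r : R →ₐ[k] k)
    (w : G ⟶ G') (hw : w = lift (𝟙 G) (toUnit G ≫ ratPoint r) ≫ v) :
    IsMonHom w := by
  let rp := ratPoint r
  haveI := isAffine_tensor G G
  have hmulR : ∀ (T : Over (Spec (CommRingCat.of k))) (_ : IsAffine T.left) (x y : T ⟶ G),
      lift (fst T _ ≫ (x * y)) (snd T (specObj k R)) ≫ v =
        (lift (fst T _ ≫ x) (snd T _) ≫ v) * (lift (fst T _ ≫ y) (snd T _) ≫ v) := by
    intro T hT x y
    refine cancel R.val Subtype.val_injective _ _ ?_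
    have e : ∀ z : T ⟶ G, (T ◁ specHom R.val) ≫ lift (fst T _ ≫ z) (snd T _) ≫ v =
        φ.app (snd T (specObj k K)) (fst T _ ≫ z) := by
      intro z
      rw [app_eq, ← hv, lift_whiskerLeft_assoc, comp_lift_assoc, whiskerLeft_fst_assoc, whiskerLeft_snd]
    rw [e, MonObj.comp_mul, MonObj.comp_mul, e, e, φ.map_mul]
  have hmul : ∀ (T : Over (Spec (CommRingCat.of k))) (_ : IsAffine T.left) (x y : T ⟶ G),
      (x * y) ≫ w = (x ≫ w) * (y ≫ w) := by
    intro T hT x y
    have e : ∀ z : T ⟶ G, z ≫ w =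
        lift (𝟙 T) (toUnit T ≫ rp) ≫ lift (fst T _ ≫ z) (snd T _) ≫ v := by
      intro z
      rw [hw, comp_lift_assoc, comp_lift_assoc, Category.comp_id, lift_fst_assoc, lift_snd,
        comp_toUnit_assoc, Category.id_comp]
    rw [e, e, e, hmulR T hT, MonObj.comp_mul]
  refine ⟨?_, ?_⟩
  · haveI : IsAffine (𝟙_ (Over (Spec (CommRingCat.of k)))).left := inferInstanceAs (IsAffine (Spec _))
    have h1 := hmul _ inferInstance (1 : 𝟙_ _ ⟶ G) 1
    rw [_root_.mul_one] at h1
    have h2 : (1 : 𝟙_ _ ⟶ G) ≫ w = 1 := left_eq_mul.mp h1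
    rw [Hom.one_def, Hom.one_def, Category.assoc] at h2
    simpa using h2
  · have h1 := hmul _ inferInstance (fst G G) (snd G G)
    simp only [Hom.mul_def, Category.assoc, lift_fst_snd, Category.id_comp] at h1
    rw [h1, tensorHom_def]
    congr 1
    apply CartesianMonoidalCategory.hom_ext <;> simp

/-- Isomorphisms of affine groups of finite type over an algebraically closed field descend. -/
theorem nonempty_iso [IsAlgClosed k] [Nontrivial K] [LocallyOfFiniteType G.hom]
    [LocallyOfFiniteType G'.hom] (φ : PtHom (specObj k K) G G') (ψ : PtHom (specObj k K) G' G)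
    (h₁ : ∀ {T} (t : T ⟶ specObj k K) (x : T ⟶ G), ψ.app t (φ.app t x) = x)
    (h₂ : ∀ {T} (t : T ⟶ specObj k K) (x : T ⟶ G'), φ.app t (ψ.app t x) = x) :
    Nonempty (Grp.mk G ≅ Grp.mk G') := by
  classical
  obtain ⟨S₁, hS₁⟩ := exists_descent (univ φ)
  obtain ⟨S₂, hS₂⟩ := exists_descent (univ ψ)
  obtain ⟨R, hR, ⟨r⟩⟩ := exists_point (k := k) (S₁ ∪ S₂)
  obtain ⟨v₁, hv₁⟩ := hS₁ R fun c hc => hR (Finset.mem_union_left _ hc)
  obtain ⟨v₂, hv₂⟩ := hS₂ R fun c hc => hR (Finset.mem_union_right _ hc)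
  let rp := ratPoint r
  let w₁ : G ⟶ G' := lift (𝟙 G) (toUnit G ≫ rp) ≫ v₁
  let w₂ : G' ⟶ G := lift (𝟙 G') (toUnit G' ≫ rp) ≫ v₂
  haveI : IsMonHom w₁ := isMonHom_of_descent φ R v₁ hv₁ r w₁ rfl
  haveI : IsMonHom w₂ := isMonHom_of_descent ψ R v₂ hv₂ r w₂ rfl
  have key : ∀ (A A' : Over (Spec (CommRingCat.of k))) [GrpObj A] [GrpObj A'] [IsAffine A.left]
      [IsAffine A'.left] (α : PtHom (specObj k K) A A') (β : PtHom (specObj k K) A' A)
      (a : A ⊗ specObj k R ⟶ A') (b : A' ⊗ specObj k R ⟶ A),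
      (A ◁ specHom R.val) ≫ a = univ α → (A' ◁ specHom R.val) ≫ b = univ β →
      (∀ {T} (t : T ⟶ specObj k K) (x : T ⟶ A), β.app t (α.app t x) = x) →
      (lift (𝟙 A) (toUnit A ≫ rp) ≫ a) ≫ lift (𝟙 A') (toUnit A' ≫ rp) ≫ b = 𝟙 A := by
    intro A A' _ _ _ _ α β a b ha hb h
    have e1 : lift a (snd A (specObj k R)) ≫ b = fst A _ := by
      refine cancel R.val Subtype.val_injective _ _ ?_
      rw [whiskerLeft_fst, comp_lift_assoc, ha, whiskerLeft_snd, ← lift_whiskerLeft_assoc, hb, ← app_eq,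
        univ, h]
    have e2 := congrArg (fun z => lift (𝟙 A) (toUnit A ≫ rp) ≫ z) e1
    simp only [lift_fst, comp_lift_assoc, lift_snd] at e2
    refine Eq.trans ?_ e2
    rw [comp_lift_assoc, Category.comp_id, comp_toUnit_assoc]
  exact ⟨Grp.mkIso ⟨w₁, w₂, key G G' φ ψ v₁ v₂ hv₁ hv₂ h₁, key G' G ψ φ v₂ v₁ hv₂ hv₁ h₂⟩
    (IsMonHom.one_hom w₁) (IsMonHom.mul_hom w₁)⟩

end Groth.Agent.GrpAlgClosed19
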